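import Groth.Agent.Lib.AlgEquiv22.NonDeg
import Groth.Agent.Lib.RelAmple18.Ops
import Groth.Agent.Lib.DiagGL.Chars
import Groth.Agent.Lib.AbRigid.FlatFibre
import Groth.Agent.Lib.AbDual21.PicZero

/-!
# The subscheme `K(L)` of a relatively ample module is finite
-/

universe u

open CategoryTheory CategoryTheory.Limits MonoidalCategory CartesianMonoidalCategory MonObj GrpObj AlgebraicGeometry
open scoped CategoryTheory.Obj

set_option linter.style.haveILetI false
set_option linter.unusedSectionVars false
set_option maxHeartbeats 1000000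
set_option synthInstance.maxHeartbeats 400000
set_option backward.isDefEq.respectTransparency false

noncomputable section

namespace Groth.Agent.KLFin22

open Groth.Agent.PicDesc21 Groth.Agent.CubeField

noncomputable local instance instLawKL (Y : Scheme.{u}) : PicGrp.Law Y := M2.law Y

variable {S : Scheme.{u}} {A : Over S} [GrpObj A]

/-- Pullback of classes along equal maps. -/
theorem cl_tensor (X : Scheme.{u}) (M N : X.Modules) :
    PicF.cl (CohB1.tensorMod M N) = PicGrp.mulCl (PicF.cl M) (PicF.cl N) := (PicGrp.mulCl_cl M N).symm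

/-- The module is fixed by the translation at a geometric point of `K(L)`. -/
theorem pullCl_trans_eq {Ω : Type u} [Field Ω] (p : Spec (CommRingCat.of Ω) ⟶ S) {L : A.left.Modules}
    (hL : PicF.IsInvertible L)
    {a : 𝟙_ (Over (Spec (CommRingCat.of Ω))) ⟶ Red.bc p A}
    (zf : Over.mk p ⟶ A) (hzf : zf.left = a.left ≫ pullback.fst A.hom p)
    (h : ThetaGrp.IsMumfordTriv A L zf) :
    PicF.pullCl (trans₁ a).left (PicF.pullCl (pullback.fst A.hom p) (PicF.cl L)) =
      PicF.pullCl (pullback.fst A.hom p) (PicF.cl L) := by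
  obtain ⟨M, hM, ⟨e⟩⟩ := h
  let sh : (Over.map p).obj (Red.bc p A) ⟶ A ⊗ Over.mk p :=
    Over.homMk (𝟙 _) (by
      show 𝟙 _ ≫ pullback.fst A.hom p ≫ A.hom = pullback.snd A.hom p ≫ p
      rw [Category.id_comp, pullback.condition])
  have h1 : DiagGL.fl p A (𝟙 (Red.bc p A)) = sh ≫ fst A (Over.mk p) :=
    Over.OverMorphism.ext (by simp [DiagGL.fl, Adjunction.homEquiv_counit, sh])
  have h2 : DiagGL.fl p A (toUnit (Red.bc p A) ≫ a) = sh ≫ snd A (Over.mk p) ≫ zf :=
    Over.OverMorphism.ext (by simp [DiagGL.fl, Adjunction.homEquiv_counit, sh, hzf])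
  have hm : DiagGL.fl p A (trans₁ a) = sh ≫ (fst A (Over.mk p) * (snd A (Over.mk p) ≫ zf)) := by
    rw [trans₁, DiagGL.fl_mul, h1, h2, MonObj.comp_mul]
  have hw : (A ◁ zf) ≫ μ[A] = fst A (Over.mk p) * (snd A (Over.mk p) ≫ zf) := by
    rw [Hom.mul_def]
    congr 1
  have hm' : (trans₁ a).left ≫ pullback.fst A.hom p = ((A ◁ zf) ≫ μ[A]).left := by
    have h3 := congrArg Over.Hom.left hm
    rw [hw]
    refine (Eq.trans ?_ h3).trans (Category.id_comp _)
    simp [DiagGL.fl, Adjunction.homEquiv_counit]
  have e' := (PicGrp.cl_eq_cl_iff _ _).2 ⟨e⟩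
  simp only [cl_tensor, PicLoc.pullCl_cl] at e'
  have htM : PicF.cl M = PicF.cl (Coh.structureModule _) :=
    AbDual21.isTrivialCl_spec_field ⟨M, rfl, hM⟩
  have htL : PicF.pullCl (snd A (Over.mk p) ≫ zf).left (PicF.cl L) = PicF.cl (Coh.structureModule _) := by
    rw [Over.comp_left, ← pullCl_pullCl,
      show PicF.pullCl zf.left (PicF.cl L) = PicF.cl (Coh.structureModule _) from
        AbDual21.isTrivialCl_spec_field (isInvertibleCl_pull _ ⟨L, rfl, hL⟩)]
    exact pullCl_structure _
  rw [← PicLoc.pullCl_cl (snd A (Over.mk p)).left M, ← PicLoc.pullCl_cl (snd A (Over.mk p) ≫ zf).left L, htL, htM,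
    pullCl_structure, ← PicLoc.pullCl_cl (fst A (Over.mk p)).left L,
    ← PicLoc.pullCl_cl ((A ◁ zf) ≫ μ[A]).left L, M2.mulCl_comm, ← M2.mulCl_assoc, mulCl_one,
    M2.mulCl_comm, mulCl_one] at e'
  rw [pullCl_pullCl, hm']
  exact e'.symm

variable [IsProper A.hom] [Smooth A.hom] [GeometricallyConnected A.hom]

/-- `K(L)` is finite over the base for relatively ample `L`. -/
theorem isFinite_KL (L : A.left.Modules) (hL : RelAmple.IsRelAmple A.hom L) (K : Over S) (i : K ⟶ A)
    (hK : ThetaGrp.IsKL A L i) : IsFinite K.hom := by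
  haveI := hK.closed
  haveI : IsProper K.hom := by rw [← Over.w i]; infer_instance
  haveI : LocallyQuasiFinite K.hom := LocallyQuasiFinite.of_finite_preimage_singleton _ fun s => by
    obtain ⟨V, hV, hsV, -⟩ := exists_isAffineOpen_mem_and_subset (X := S) (x := s) (U := ⊤) trivial
    let Ω := AlgebraicClosure (S.residueField s)
    let p : Spec (CommRingCat.of Ω) ⟶ S :=
      Spec.map (CommRingCat.ofHom (algebraMap (S.residueField s) Ω)) ≫ S.fromSpecResidueField s
    have hp : ∀ t, p t = s := fun t => by
      show S.fromSpecResidueField s _ = s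
      exact Scheme.fromSpecResidueField_apply _ _
    haveI : GeometricallyIntegral (Red.bc p A).hom := by
      haveI : Smooth (Red.bc p A).hom := MorphismProperty.pullback_snd _ _ inferInstance
      haveI : GeometricallyConnected (Red.bc p A).hom := MorphismProperty.pullback_snd _ _ inferInstance
      exact AbRigid.geometricallyIntegral_of_smooth _
    haveI : IsProper (Red.bc p A).hom := MorphismProperty.pullback_snd _ _ inferInstance
    let g : pullback A.hom p ⟶ (A.hom ⁻¹ᵁ V : A.left.Opens).toScheme :=
      IsOpenImmersion.lift (A.hom ⁻¹ᵁ V).ι (pullback.fst A.hom p) (by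
        rintro _ ⟨y, rfl⟩
        rw [Scheme.Opens.range_ι]
        show A.hom (pullback.fst A.hom p y) ∈ V
        rw [← Scheme.Hom.comp_apply, pullback.condition, Scheme.Hom.comp_apply, hp]
        exact hsV)
    have hg : g ≫ (A.hom ⁻¹ᵁ V).ι = pullback.fst A.hom p := IsOpenImmersion.lift_fac _ _ _
    let pV : Spec (CommRingCat.of Ω) ⟶ (V : Scheme.{u}) := IsOpenImmersion.lift V.ι p (by
      rintro _ ⟨y, rfl⟩
      rw [Scheme.Opens.range_ι]
      exact (hp y).symm ▸ hsV)
    have hpV : pV ≫ V.ι = p := IsOpenImmersion.lift_fac _ _ _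
    haveI : IsAffine (V : Scheme.{u}) := hV
    haveI : IsAffineHom g := by
      have hsq : g ≫ (A.hom ∣_ V) = pullback.snd A.hom p ≫ pV := by
        rw [← cancel_mono V.ι, Category.assoc, morphismRestrict_ι, reassoc_of% hg, pullback.condition,
          Category.assoc, hpV]
      have hout : IsPullback (g ≫ (A.hom ⁻¹ᵁ V).ι) (pullback.snd A.hom p) A.hom (pV ≫ V.ι) := by
        rw [hg, hpV]
        exact IsPullback.of_hasPullback A.hom p
      exact MorphismProperty.of_isPullback (IsPullback.of_right hout hsq (isPullback_morphismRestrict A.hom V).flip).flip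
        (inferInstance : IsAffineHom pV)
    have hL' := RA.isInvertible_of_isRelAmple A.hom hL
    have hLA : CohB1.IsAmple ((Scheme.Modules.pullback (pullback.fst A.hom p)).obj L) := by
      have h1 := Amp.isAmple_pullback_of_isAffineHom g (hL.2 ⟨V, hV⟩)
      refine Amp.isAmple_of_iso ?_ h1
      exact (Scheme.Modules.pullback g).mapIso ((Scheme.Modules.restrictFunctorIsoPullback _).app L) ≪≫
        (Scheme.Modules.pullbackComp g (A.hom ⁻¹ᵁ V).ι).app L ≪≫
        (Scheme.Modules.pullbackCongr hg).app L
    have hfin := AlgEquiv22.finite_fixing (A := Red.bc p A) hLA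
    let κ : Red.bc p K ⟶ Red.bc p A := (Over.pullback p).map i
    haveI : IsClosedImmersion κ.left := by
      have : IsPullback (pullback.fst K.hom p) κ.left i.left (pullback.fst A.hom p) := by
        have h3 : κ.left ≫ pullback.snd A.hom p = pullback.snd K.hom p := Over.w κ
        refine IsPullback.of_bot ?_ (by simp [κ]) (IsPullback.of_hasPullback A.hom p)
        rw [h3, Over.w i]
        exact IsPullback.of_hasPullback K.hom p
      exact MorphismProperty.of_isPullback this inferInstance
    haveI : LocallyOfFiniteType (Red.bc p K).hom := MorphismProperty.pullback_snd _ _ inferInstance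
    haveI : JacobsonSpace (Red.bc p K).left := LocallyOfFiniteType.jacobsonSpace (Red.bc p K).hom
    have hcl : (closedPoints (Red.bc p K).left).Finite := by
      refine Set.Finite.of_finite_image (f := κ.left) ((hfin.image rpt).subset ?_) κ.left.isClosedEmbedding.injective.injOn
      rintro _ ⟨y, hy, rfl⟩
      obtain ⟨b, rfl⟩ := exists_rpt (X := Red.bc p K) hy
      refine ⟨b ≫ κ, ?_, rpt_comp _ _⟩
      let zk : Over.mk p ⟶ K := Over.homMk (b.left ≫ pullback.fst K.hom p) (by
        show (b.left ≫ pullback.fst K.hom p) ≫ K.hom = p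
        rw [Category.assoc, pullback.condition, ← Category.assoc]
        exact (congrArg (· ≫ p) (Over.w b)).trans (Category.id_comp p))
      have h1 := pullCl_trans_eq p hL' (a := b ≫ κ) (zk ≫ i) (by simp [zk, κ]) ((hK.univ _ _).2 ⟨zk, rfl⟩)
      show AlgEquiv22.pb (trans₁ (b ≫ κ)) (PicGrp.cls _ hLA.1) = PicGrp.cls _ hLA.1
      apply Subtype.ext
      rw [PicLoc.pullCl_cl] at h1
      exact h1
    have huniv : (Set.univ : Set (Red.bc p K).left) = closedPoints (Red.bc p K).left := by
      have h1 : IsClosed (closedPoints (Red.bc p K).left) := by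
        rw [← Set.biUnion_of_singleton (closedPoints (Red.bc p K).left)]
        exact hcl.isClosed_biUnion fun y hy => hy
      rw [← closure_closedPoints (X := (Red.bc p K).left), h1.closure_eq]
    refine ((huniv.symm ▸ hcl : (Set.univ : Set (Red.bc p K).left).Finite).image (pullback.fst K.hom p)).subset
      fun y hy => ?_
    obtain ⟨z, hz1, -⟩ := Scheme.Pullback.exists_preimage_pullback (f := K.hom) (g := p) y
      (IsLocalRing.closedPoint Ω) (hy.trans (hp _).symm)
    exact ⟨z, Set.mem_univ z, hz1⟩
  exact IsFinite.of_isProper_of_locallyQuasiFinite K.hom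

end Groth.Agent.KLFin22

end
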